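import Groth.Agent.ExtCoker.Basic
import Groth.Agent.LinType.Basic
import Mathlib

/-!
# The top exterior power of a projective complement of a free module in a free module
-/

set_option autoImplicit false
set_option linter.style.haveILetI false

universe u

open exteriorPower

namespace Groth.Agent.ExtDet

variable {B : Type u} [CommRing B]

/-- The top exterior power of a free module. -/
theorem exists_equiv_of_basis {N : Type u} [AddCommGroup N] [Module B N] {n : ℕ} (b : Module.Basis (Fin n) B N) :
    ∃ e : ⋀[B]^n N ≃ₗ[B] B, e (ιMulti B n b) = 1 := by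
  classical
  let f : ⋀[B]^n N →ₗ[B] B := alternatingMapLinearEquiv b.det
  have hf : ∀ v, f (ιMulti B n v) = b.det v := fun v => alternatingMapLinearEquiv_apply_ιMulti _ _
  let g : B →ₗ[B] ⋀[B]^n N := LinearMap.toSpanSingleton B _ (ιMulti B n b)
  have hgf : g ∘ₗ f = LinearMap.id := by
    refine exteriorPower.linearMap_ext (b.ext_alternating fun v hv => ?_)
    obtain ⟨σ, rfl⟩ : ∃ σ : Equiv.Perm (Fin n), v = σ :=
      ⟨Equiv.ofBijective v (Finite.injective_iff_bijective.mp hv), rfl⟩
    simp only [LinearMap.compAlternatingMap_apply, LinearMap.comp_apply, LinearMap.id_apply, hf, g,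
      LinearMap.toSpanSingleton_apply]
    rw [show (fun i => b (σ i)) = (⇑b ∘ σ) from rfl, AlternatingMap.map_perm, AlternatingMap.map_perm,
      Module.Basis.det_self, smul_assoc, one_smul]
  have hfg : f ∘ₗ g = LinearMap.id := LinearMap.ext_ring (by
    simp [g, hf, Module.Basis.det_self])
  exact ⟨LinearEquiv.ofLinear f g hfg hgf, by
    show f _ = 1
    rw [hf, Module.Basis.det_self]⟩

/-- Locally, an exterior power of a module of rank `d` is spanned by that of `d` elements. -/
theorem exists_mem_range_map {M : Type u} [AddCommGroup M] [Module B M] [Module.Finite B M]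
    [Module.Projective B M] {d : ℕ} (hd : ∀ p : PrimeSpectrum B, Module.rankAtStalk M p = d)
    (m : Ideal B) [m.IsPrime] (j : ℕ) :
    ∃ x : Fin d → M, ∀ z : ⋀[B]^j M, ∃ f ∉ m,
      f • z ∈ LinearMap.range (exteriorPower.map j (Fintype.linearCombination B x)) := by
  classical
  obtain ⟨x, -, -, hx⟩ := ExtCoker.exists_chart d ⟨m, inferInstance⟩ (hd _)
  refine ⟨x, fun z => ?_⟩
  have hz : z ∈ Submodule.span B (Set.range (ιMulti B j (M := M))) := by rw [ιMulti_span]; trivial
  induction hz using Submodule.span_induction with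
  | zero => exact ⟨1, m.one_notMem, by rw [smul_zero]; exact Submodule.zero_mem _⟩
  | add a b _ _ ha hb =>
    obtain ⟨f, hf, hfa⟩ := ha
    obtain ⟨g, hg, hgb⟩ := hb
    refine ⟨g * f, fun h => (‹m.IsPrime›.mem_or_mem h).elim hg hf, ?_⟩
    rw [smul_add, mul_smul, mul_comm g f, mul_smul]
    exact Submodule.add_mem _ (Submodule.smul_mem _ _ hfa) (Submodule.smul_mem _ _ hgb)
  | smul c a _ ha =>
    obtain ⟨f, hf, hfa⟩ := ha
    exact ⟨f, hf, by rw [smul_comm]; exact Submodule.smul_mem _ _ hfa⟩
  | mem _ h =>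
    obtain ⟨v, rfl⟩ := h
    choose f hf hfx using fun i => hx (v i)
    choose c hc using fun i => (Submodule.mem_span_range_iff_exists_fun B).1 (hfx i)
    refine ⟨∏ i, f i, fun h => ?_, ⟨ιMulti B j c, ?_⟩⟩
    · obtain ⟨i, -, hi⟩ := ‹m.IsPrime›.prod_mem_iff.1 h
      exact hf i hi
    · rw [exteriorPower.map_apply_ιMulti, ← AlternatingMap.coe_multilinearMap,
        ← MultilinearMap.map_smul_univ, AlternatingMap.coe_multilinearMap]
      congr 1
      funext i
      rw [Function.comp_apply, Fintype.linearCombination_apply, hc]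

/-- An exterior power beyond the rank vanishes. -/
theorem eq_zero_of_rank_lt {M : Type u} [AddCommGroup M] [Module B M] [Module.Finite B M]
    [Module.Projective B M] {d : ℕ} (hd : ∀ p : PrimeSpectrum B, Module.rankAtStalk M p = d)
    {j : ℕ} (hj : d < j) (z : ⋀[B]^j M) : z = 0 := by
  classical
  rw [← Ideal.torsionOf_eq_top_iff (R := B)]
  by_contra htop
  obtain ⟨m, hm, hle⟩ := Ideal.exists_le_maximal _ htop
  obtain ⟨x, hx⟩ := exists_mem_range_map hd m j
  obtain ⟨f, hf, w, hw⟩ := hx z
  refine hf (hle ((Ideal.mem_torsionOf_iff _ _).2 ?_))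
  have h0 : exteriorPower.map j (Fintype.linearCombination B x) = 0 :=
    exteriorPower.linearMap_ext ((Pi.basisFun B (Fin d)).ext_alternating fun e he =>
      absurd (Fintype.card_le_of_injective e he) (by simp [hj]))
  rw [← hw, h0, LinearMap.zero_apply]

/-- Powers of a sum of anticommuting submodules. -/
theorem sup_pow_le {A : Type u} [Ring A] [Algebra B A] (S T : Submodule B A) (hTS : T * S ≤ S * T) (N : ℕ) :
    (S ⊔ T) ^ N ≤ ⨆ (i : ℕ) (j : ℕ) (_ : i + j = N), S ^ i * T ^ j := by
  have hcomm : ∀ i, T * S ^ i ≤ S ^ i * T := by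
    intro i
    induction i with
    | zero => rw [Submodule.pow_zero, mul_one, one_mul]
    | succ i ih =>
      rw [pow_succ, ← mul_assoc]
      refine (mul_le_mul' ih le_rfl).trans ?_
      rw [mul_assoc, mul_assoc]
      exact mul_le_mul' le_rfl hTS
  induction N with
  | zero =>
    refine le_iSup_of_le 0 (le_iSup_of_le 0 (le_iSup_of_le rfl ?_))
    rw [Submodule.pow_zero, Submodule.pow_zero, Submodule.pow_zero, one_mul]
  | succ N ih =>
    rw [pow_succ']
    refine (mul_le_mul' le_rfl ih).trans ?_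
    simp only [Submodule.mul_iSup]
    refine iSup_le fun i => iSup_le fun j => iSup_le fun hij => ?_
    rw [Submodule.sup_mul]
    refine sup_le ?_ ?_
    · refine le_iSup_of_le (i + 1) (le_iSup_of_le j (le_iSup_of_le (by omega) ?_))
      rw [pow_succ' S i, mul_assoc]
    · refine le_iSup_of_le i (le_iSup_of_le (j + 1) (le_iSup_of_le (by omega) ?_))
      rw [pow_succ' T j, ← mul_assoc, ← mul_assoc]
      exact mul_le_mul' (hcomm i) le_rfl

theorem pow_range_comp_ι {M V : Type u} [AddCommGroup M] [Module B M] [AddCommGroup V] [Module B V]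
    (f : M →ₗ[B] V) (j : ℕ) :
    LinearMap.range (ExteriorAlgebra.ι B ∘ₗ f) ^ j =
      (⋀[B]^j M).map (ExteriorAlgebra.map f).toLinearMap := by
  rw [Submodule.map_pow]
  congr 1
  rw [← LinearMap.range_comp]
  congr 1
  ext z
  simp [ExteriorAlgebra.map_apply_ι]

/-- If `V` is free of rank `n` and splits as a free module of rank `r` plus `M`, then the exterior
power of degree `n - r` of `M` is free of rank one. -/
theorem exists_equiv_of_split {M V : Type u} [AddCommGroup M] [Module B M] [Module.Finite B M]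
    [Module.Projective B M] [AddCommGroup V] [Module B V] {n r : ℕ} (hrn : r ≤ n)
    (bV : Module.Basis (Fin n) B V) (i : (Fin r → B) →ₗ[B] V) (l : V →ₗ[B] (Fin r → B))
    (hl : l ∘ₗ i = LinearMap.id) (π : V →ₗ[B] M) (hπ : Function.Surjective π)
    (hex : LinearMap.ker π = LinearMap.range i) :
    Nonempty (⋀[B]^(n - r) M ≃ₗ[B] B) := by
  classical
  obtain ⟨s, hs⟩ := Module.projective_lifting_property π LinearMap.id hπ
  have hπs : ∀ m, π (s m) = m := fun m => LinearMap.congr_fun hs m
  have hπi : ∀ a, π (i a) = 0 := fun a => LinearMap.mem_ker.mp (hex ▸ LinearMap.mem_range_self i a)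
  have hdec : ∀ x : V, ∃ a, x = i a + s (π x) := fun x => by
    obtain ⟨a, ha⟩ : x - s (π x) ∈ LinearMap.range i := by
      rw [← hex, LinearMap.mem_ker, map_sub, hπs, sub_self]
    exact ⟨a, by rw [ha]; abel⟩
  -- the rank of `M`
  let T : ((Fin r → B) × M) →ₗ[B] V := i.coprod s
  have hT : Function.Bijective T := by
    refine ⟨(injective_iff_map_eq_zero _).mpr fun y hy => ?_, fun x => ?_⟩
    · have h2 : y.2 = 0 := by simpa [T, hπi, hπs] using congrArg π hy
      have h1 : y.1 = 0 := by
        have hl' : ∀ a, l (i a) = a := fun a => LinearMap.congr_fun hl a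
        simpa [T, h2, hl'] using congrArg l hy
      exact Prod.ext h1 h2
    · obtain ⟨a, ha⟩ := hdec x
      exact ⟨(a, π x), by rw [ha]; simp [T, hπi, hπs]⟩
  haveI : Module.Free B V := .of_basis bV
  haveI : Module.Finite B V := .of_basis bV
  have hd : ∀ p : PrimeSpectrum B, Module.rankAtStalk M p = n - r := fun p => by
    haveI : Nontrivial B := p.nontrivial
    have h := congrFun (Module.rankAtStalk_eq_of_equiv (LinearEquiv.ofBijective T hT)) p
    have hV : Module.rankAtStalk V p = n := by
      rw [Module.rankAtStalk_eq_finrank_of_free, Pi.natCast_apply, Module.finrank_eq_card_basis bV,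
        Fintype.card_fin, Nat.cast_id]
    have hF : Module.rankAtStalk (Fin r → B) p = r := by
      rw [Module.rankAtStalk_eq_finrank_of_free, Pi.natCast_apply, Module.finrank_fin_fun, Nat.cast_id]
    rw [Module.rankAtStalk_prod, Pi.add_apply, hV, hF] at h
    omega
  -- the product with the generator of the first factor
  let E : ExteriorAlgebra B V :=
    ExteriorAlgebra.ιMulti B r fun k => i (Pi.single k 1)
  have hmem : ∀ z : ⋀[B]^(n - r) M, E * ExteriorAlgebra.map s (z : ExteriorAlgebra B M) ∈ ⋀[B]^n V := by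
    intro z
    have h1 : E ∈ ⋀[B]^r V := (exteriorPower.ιMulti B r fun k => i (Pi.single k 1)).2
    have h2 : ExteriorAlgebra.map s (z : ExteriorAlgebra B M) ∈ ⋀[B]^(n - r) V := by
      have h3 : ExteriorAlgebra.map s (z : ExteriorAlgebra B M) ∈
          LinearMap.range (ExteriorAlgebra.ι B ∘ₗ s) ^ (n - r) := by
        rw [pow_range_comp_ι]; exact Submodule.mem_map_of_mem z.2
      exact pow_le_pow_left' (LinearMap.range_comp_le_range _ _) _ h3
    have h4 := Submodule.mul_mem_mul h1 h2
    rw [← pow_add, Nat.add_sub_cancel' hrn] at h4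
    exact h4
  let ψ : ⋀[B]^(n - r) M →ₗ[B] ⋀[B]^n V :=
    (((LinearMap.mulLeft B E).comp (ExteriorAlgebra.map s).toLinearMap).comp (Submodule.subtype _)).codRestrict _ hmem
  -- it is onto
  have hsurj : Function.Surjective ψ := by
    intro w
    let S := LinearMap.range (ExteriorAlgebra.ι B ∘ₗ i)
    let C := LinearMap.range (ExteriorAlgebra.ι B ∘ₗ s)
    have hCS : C * S ≤ S * C := by
      rw [Submodule.mul_le]
      rintro _ ⟨m, rfl⟩ _ ⟨a, rfl⟩
      rw [LinearMap.comp_apply, LinearMap.comp_apply,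
        eq_neg_of_add_eq_zero_left (ExteriorAlgebra.ι_add_mul_swap (s m) (i a))]
      exact Submodule.neg_mem _ (Submodule.mul_mem_mul ⟨a, rfl⟩ ⟨m, rfl⟩)
    have hle : LinearMap.range (ExteriorAlgebra.ι B : V →ₗ[B] _) ≤ S ⊔ C := by
      rintro _ ⟨x, rfl⟩
      obtain ⟨a, ha⟩ := hdec x
      rw [ha, map_add]
      exact Submodule.add_mem_sup ⟨a, rfl⟩ ⟨π x, rfl⟩
    obtain ⟨eK, heK⟩ := exists_equiv_of_basis (Pi.basisFun B (Fin r))
    have key : ⋀[B]^n V ≤ LinearMap.range
        ((LinearMap.mulLeft B E).comp (((ExteriorAlgebra.map s).toLinearMap).comp (⋀[B]^(n - r) M).subtype)) := by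
      refine (pow_le_pow_left' hle n).trans ((sup_pow_le S C hCS n).trans ?_)
      refine iSup_le fun p => iSup_le fun q => iSup_le fun hpq => ?_
      simp only [S, C, pow_range_comp_ι]
      rw [Submodule.mul_le]
      rintro _ ⟨a, ha, rfl⟩ _ ⟨b, hb, rfl⟩
      rcases lt_trichotomy r p with hlt | rfl | hlt
      · have h0 : (⟨a, ha⟩ : ⋀[B]^p (Fin r → B)) = 0 := eq_zero_of_rank_lt (d := r) (fun P => by
          haveI : Nontrivial B := P.nontrivial
          rw [Module.rankAtStalk_eq_finrank_of_free, Pi.natCast_apply, Module.finrank_fin_fun, Nat.cast_id]) hlt _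
        rw [show a = 0 from congrArg Subtype.val h0, map_zero, zero_mul]
        exact Submodule.zero_mem _
      · obtain rfl : q = n - r := by omega
        have h1 : (⟨a, ha⟩ : ⋀[B]^r (Fin r → B)) =
            eK ⟨a, ha⟩ • exteriorPower.ιMulti B r (Pi.basisFun B (Fin r)) := by
          apply eK.injective
          rw [map_smul, heK, smul_eq_mul, mul_one]
        refine ⟨eK ⟨a, ha⟩ • ⟨b, hb⟩, ?_⟩
        have hA := congrArg (ExteriorAlgebra.map i).toLinearMap (show a = eK ⟨a, ha⟩ •
          ExteriorAlgebra.ιMulti B r (Pi.basisFun B (Fin r)) from congrArg Subtype.val h1)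
        rw [map_smul (ExteriorAlgebra.map i).toLinearMap] at hA
        conv_rhs => rw [hA, AlgHom.toLinearMap_apply, ExteriorAlgebra.map_apply_ιMulti, smul_mul_assoc]
        rw [map_smul]
        simp only [LinearMap.comp_apply, Submodule.subtype_apply, LinearMap.mulLeft_apply, AlgHom.toLinearMap_apply, E]
        congr 2
        congr 1
        funext k
        simp
      · have h0 : (⟨b, hb⟩ : ⋀[B]^q M) = 0 := eq_zero_of_rank_lt hd (by omega) _
        rw [show b = 0 from congrArg Subtype.val h0, map_zero, mul_zero]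
        exact Submodule.zero_mem _
    obtain ⟨z, hz⟩ := key w.2
    exact ⟨z, Subtype.ext hz⟩
  obtain ⟨eV, -⟩ := exists_equiv_of_basis bV
  let Φ := eV.toLinearMap ∘ₗ ψ
  have hΦ : Function.Surjective Φ := eV.surjective.comp hsurj
  refine ⟨LinearEquiv.ofBijective Φ ⟨(injective_iff_map_eq_zero _).mpr fun z hz => ?_, hΦ⟩⟩
  rw [← Ideal.torsionOf_eq_top_iff (R := B)]
  by_contra htop
  obtain ⟨m, hm, hle⟩ := Ideal.exists_le_maximal _ htop
  obtain ⟨x, hx⟩ := exists_mem_range_map hd m (n - r)
  obtain ⟨e0, he0⟩ := exists_equiv_of_basis (Pi.basisFun B (Fin (n - r)))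
  obtain ⟨ω, hω⟩ := hΦ 1
  obtain ⟨f, hf, w, hw⟩ := hx z
  obtain ⟨g, hg, w', hw'⟩ := hx ω
  have hgen : ∀ w, exteriorPower.map (n - r) (Fintype.linearCombination B x) w = e0 w •
      exteriorPower.map (n - r) (Fintype.linearCombination B x) (ιMulti B _ (Pi.basisFun B (Fin (n - r)))) := by
    intro w
    rw [← map_smul]
    congr 1
    apply e0.injective
    rw [map_smul, he0, smul_eq_mul, mul_one]
  set X := exteriorPower.map (n - r) (Fintype.linearCombination B x) (ιMulti B _ (Pi.basisFun B (Fin (n - r))))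
  rw [hgen] at hw hw'
  have h1 : e0 w * Φ X = 0 := by rw [← smul_eq_mul, ← map_smul, hw, map_smul, hz, smul_zero]
  have h2 : e0 w' * Φ X = g := by rw [← smul_eq_mul, ← map_smul, hw', map_smul, hω, smul_eq_mul, mul_one]
  refine (‹m.IsMaximal›.isPrime.mem_or_mem (hle ((Ideal.mem_torsionOf_iff _ _).2
    (show (g * f) • z = 0 from ?_)))).elim hg hf
  rw [mul_smul, ← hw, smul_smul]
  rw [show g * e0 w = 0 by rw [← h2, mul_assoc, mul_comm (Φ X), h1, mul_zero], zero_smul]

/-- The classes of a weakly regular sequence form a basis of the conormal module. -/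
theorem exists_basis_cotangent {R : Type u} [CommRing R] {r : ℕ} (F : Fin r → R)
    (hreg : RingTheory.Sequence.IsWeaklyRegular R (List.ofFn F)) (I : Ideal R) (hI : I = Ideal.span (Set.range F)) :
    Nonempty (Module.Basis (Fin r) (R ⧸ I) I.Cotangent) := by
  classical
  subst hI
  let Fi : Fin r → (Ideal.span (Set.range F) : Ideal R) := fun j => ⟨F j, Ideal.subset_span ⟨j, rfl⟩⟩
  let v : Fin r → (Ideal.span (Set.range F)).Cotangent := fun j => (Ideal.span (Set.range F)).toCotangent (Fi j)
  have hsmul : ∀ (a : R) (x : (Ideal.span (Set.range F)).Cotangent),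
      (Ideal.Quotient.mk (Ideal.span (Set.range F)) a) • x = a • x := fun a x => algebraMap_smul _ a x
  have hli : LinearIndependent (R ⧸ Ideal.span (Set.range F)) v := by
    rw [Fintype.linearIndependent_iff]
    intro c hc k
    choose a ha using fun j => Ideal.Quotient.mk_surjective (c j)
    have h1 : (Ideal.span (Set.range F)).toCotangent (∑ j, a j • Fi j) = 0 := by
      rw [map_sum, ← hc]
      exact Finset.sum_congr rfl fun j _ => by rw [map_smul, ← ha, hsmul]
    rw [Ideal.toCotangent_eq_zero] at h1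
    have h2 := LinType.quasiRegular F hreg (d := 1) (P := ∑ j, MvPolynomial.C (a j) * MvPolynomial.X j)
      (MvPolynomial.IsHomogeneous.sum _ _ _ fun j _ => (MvPolynomial.isHomogeneous_X _ j).C_mul _)
      (by simpa [Fi] using h1) (Finsupp.single k 1)
    rw [← ha k, Ideal.Quotient.eq_zero_iff_mem]
    simpa [MvPolynomial.coeff_sum, MvPolynomial.coeff_C_mul, MvPolynomial.coeff_X', Finsupp.single_left_inj,
      Finset.sum_ite_eq'] using h2
  refine ⟨Module.Basis.mk hli ?_⟩
  intro x _
  obtain ⟨⟨x, hx⟩, rfl⟩ := (Ideal.span (Set.range F)).toCotangent_surjective x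
  obtain ⟨a, ha⟩ := (Submodule.mem_span_range_iff_exists_fun R).1 hx
  have he : (⟨x, hx⟩ : (Ideal.span (Set.range F) : Ideal R)) = ∑ j, a j • Fi j := Subtype.ext (by simp [Fi, ← ha])
  rw [he, map_sum]
  refine Submodule.sum_mem _ fun j _ => ?_
  rw [map_smul, ← hsmul]
  exact Submodule.smul_mem _ _ (Submodule.subset_span ⟨j, rfl⟩)

end Groth.Agent.ExtDet
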